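import Mathlib
import Cfsg.Agent.Lib.Involutions.Basic
import Cfsg.Agent.Lib.PermSmall.Zassenhaus

/-!
# Two-transitive groups with an involution whose centraliser has constant fixity: the counting

If every non-identity element commuting with the involution `t` has exactly `i` fixed points then
counting the conjugates of `t` exchanging two given points gives `n = i + |C(t)|`, and every element
exchanging two points is conjugate to `t`; so two-point stabilisers are abelian, inverted by all the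
elements exchanging the two points, and there is a single class of involutions.
-/

set_option autoImplicit false
set_option linter.style.haveILetI false

namespace CfsgLib.ConstFixity

open MulAction
open CfsgLib.PermSmall.Zassenhaus (pairStab mem_pairStab)

variable {G Ω : Type*} [Group G] [MulAction G Ω]

/-- the number of fixed points -/
noncomputable def fixCard (Ω : Type*) [MulAction G Ω] (g : G) : ℕ := Nat.card {x : Ω // g • x = x}

theorem fixCard_conj (k g : G) : fixCard Ω (k * g * k⁻¹) = fixCard Ω g := by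
  refine Nat.card_congr (Equiv.subtypeEquiv (MulAction.toPerm k⁻¹) fun x => ?_)
  show (k * g * k⁻¹) • x = x ↔ g • k⁻¹ • x = k⁻¹ • x
  rw [mul_smul, mul_smul]
  exact smul_eq_iff_eq_inv_smul k

theorem fix_eq_of_le [Finite Ω] {g h : G} (hsub : ∀ x : Ω, g • x = x → h • x = x)
    (hcard : fixCard Ω h ≤ fixCard Ω g) {x : Ω} (hx : h • x = x) : g • x = x := by
  have := Set.eq_of_subset_of_ncard_le (s := {x : Ω | g • x = x}) (t := {x : Ω | h • x = x}) hsub
    hcard (Set.toFinite _)
  exact (Set.ext_iff.1 this x).2 hx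

/-- the hypothesis -/
structure Hyp (G Ω : Type*) [Group G] [MulAction G Ω] (i : ℕ) (t : G) : Prop where
  faithful : FaithfulSMul G Ω
  h2 : IsMultiplyPretransitive G Ω 2
  two : orderOf t = 2
  fix_t : fixCard Ω t = i
  cent : ∀ g : G, Commute g t → g ≠ 1 → fixCard Ω g = i

namespace Hyp

variable {i : ℕ} {t : G}

theorem conj (h : Hyp G Ω i t) (k : G) : Hyp G Ω i (k * t * k⁻¹) := by
  refine ⟨h.faithful, h.h2, (CfsgLib.Involutions.orderOf_conj_eq k t).trans h.two,
    (fixCard_conj k t).trans h.fix_t, fun g hg hg1 => ?_⟩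
  have e : g = k * (k⁻¹ * g * k) * k⁻¹ := by group
  rw [e, fixCard_conj]
  refine h.cent _ ?_ fun e1 => hg1 (by rw [e, e1]; group)
  show k⁻¹ * g * k * t = t * (k⁻¹ * g * k)
  calc k⁻¹ * g * k * t = k⁻¹ * (g * (k * t * k⁻¹)) * k := by group
    _ = k⁻¹ * (k * t * k⁻¹ * g) * k := by rw [hg.eq]
    _ = t * (k⁻¹ * g * k) := by group

variable (h : Hyp G Ω i t)
include h

theorem smul_smul_self (x : Ω) : t • t • x = x := by
  rw [smul_smul, CfsgLib.Involutions.mul_self_eq_one h.two, one_smul]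

theorem exists_moved : ∃ p : Ω, t • p ≠ p := by
  haveI := h.faithful
  by_contra! hall
  exact CfsgLib.Involutions.ne_one_of_involution h.two
    (eq_of_smul_eq_smul (α := Ω) fun x => by rw [hall x, one_smul])

theorem exists_pair {a b c d : Ω} (hab : a ≠ b) (hcd : c ≠ d) : ∃ g : G, g • a = c ∧ g • b = d :=
  is_two_pretransitive_iff.1 h.h2 hab hcd

/-- two points are exchanged by a conjugate of `t` -/
theorem exists_conj_swap {a b : Ω} (hab : a ≠ b) :
    ∃ k : G, (k * t * k⁻¹) • a = b ∧ (k * t * k⁻¹) • b = a := by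
  obtain ⟨p, hp⟩ := h.exists_moved
  obtain ⟨k, rfl, rfl⟩ := h.exists_pair (Ne.symm hp) hab
  refine ⟨k, ?_, ?_⟩
  · rw [mul_smul, mul_smul, inv_smul_smul]
  · rw [mul_smul, mul_smul, inv_smul_smul, h.smul_smul_self]

variable [Finite G] [Finite Ω]

omit [Finite G] in
theorem fix_lt : i < Nat.card Ω := by
  obtain ⟨p, hp⟩ := h.exists_moved
  haveI := Fintype.ofFinite Ω
  classical
  rw [← h.fix_t, fixCard, Nat.card_eq_fintype_card, Nat.card_eq_fintype_card]
  exact Fintype.card_subtype_lt hp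

/-- the fixed point formula for `C(t)` -/
theorem dvd_sub : Nat.card (Subgroup.centralizer ({t} : Set G)) ∣ Nat.card Ω - i := by
  classical
  haveI := Fintype.ofFinite Ω
  haveI := Fintype.ofFinite G
  set C := Subgroup.centralizer ({t} : Set G)
  have hsum := sum_card_fixedBy_eq_card_orbits_mul_card_group C Ω
  have h1 : ∀ g : C, g ∈ Finset.univ.erase (1 : C) → Fintype.card (fixedBy Ω g) = i := by
    intro g hg
    rw [← Nat.card_eq_fintype_card]
    exact h.cent g (Subgroup.mem_centralizer_singleton_iff.1 g.2)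
      fun e => (Finset.mem_erase.1 hg).1 (Subtype.ext e)
  have hone : Fintype.card (fixedBy Ω (1 : C)) = Fintype.card Ω :=
    Fintype.card_congr (Equiv.subtypeUnivEquiv fun x => one_smul C x)
  rw [← Finset.sum_erase_add _ _ (Finset.mem_univ (1 : C)), Finset.sum_congr rfl h1, hone,
    Finset.sum_const, Finset.card_erase_of_mem (Finset.mem_univ _), Finset.card_univ, smul_eq_mul] at hsum
  set o := Fintype.card (orbitRel.Quotient C Ω)
  have hpos : 0 < Fintype.card C := Fintype.card_pos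
  rw [Nat.card_eq_fintype_card, Nat.card_eq_fintype_card]
  obtain ⟨m, hm⟩ : ∃ m, Fintype.card C = m + 1 := ⟨_, (Nat.sub_add_cancel hpos).symm⟩
  rw [hm] at hsum ⊢
  simp only [Nat.add_sub_cancel] at hsum
  refine ⟨o - i, ?_⟩
  rw [Nat.mul_sub, mul_comm (m + 1) o, mul_comm (m + 1) i, ← hsum, mul_add, mul_one]
  rw [mul_comm m i]
  omega

omit [Finite G] [Finite Ω] in
/-- the elements moving a given set of pairs to `(a, b)` -/
theorem card_moving {a b : Ω} (hab : a ≠ b) (P : Set (Ω × Ω)) (hP : ∀ p ∈ P, p.1 ≠ p.2) :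
    Nat.card {g : G // (g⁻¹ • a, g⁻¹ • b) ∈ P} = Nat.card P * Nat.card (pairStab G a b) := by
  have hg : ∀ p : P, ∃ g : G, g • p.1.1 = a ∧ g • p.1.2 = b := fun p => h.exists_pair (hP p p.2) hab
  choose g hga hgb using hg
  have hia : ∀ p, (g p)⁻¹ • a = p.1.1 := fun p => inv_smul_eq_iff.2 (hga p).symm
  have hib : ∀ p, (g p)⁻¹ • b = p.1.2 := fun p => inv_smul_eq_iff.2 (hgb p).symm
  rw [← Nat.card_prod]
  refine (Nat.card_eq_of_bijective (fun q : P × pairStab G a b =>
    (⟨(q.2 : G) * g q.1, ?_⟩ : {g : G // (g⁻¹ • a, g⁻¹ • b) ∈ P})) ⟨?_, ?_⟩).symm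
  · rw [mul_inv_rev, mul_smul, mul_smul, inv_smul_eq_iff.2 q.2.2.1.symm,
      inv_smul_eq_iff.2 q.2.2.2.symm, hia, hib]
    exact q.1.2
  · rintro ⟨p, d⟩ ⟨p', d'⟩ e
    have e' : (d : G) * g p = d' * g p' := congrArg Subtype.val e
    have key : ∀ (p : P) (d : pairStab G a b), ((d : G) * g p)⁻¹ • a = p.1.1 ∧
        ((d : G) * g p)⁻¹ • b = p.1.2 := fun p d => by
      constructor
      · rw [mul_inv_rev, mul_smul, inv_smul_eq_iff.2 d.2.1.symm, hia]
      · rw [mul_inv_rev, mul_smul, inv_smul_eq_iff.2 d.2.2.symm, hib]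
    obtain rfl : p = p' := by
      have k1 := key p d
      rw [e'] at k1
      exact Subtype.ext (Prod.ext (k1.1.symm.trans (key p' d').1) (k1.2.symm.trans (key p' d').2))
    exact Prod.ext rfl (Subtype.ext (mul_right_cancel e'))
  · rintro ⟨x, hx⟩
    refine ⟨⟨⟨_, hx⟩, ⟨x * (g ⟨_, hx⟩)⁻¹, mem_pairStab.2 ⟨?_, ?_⟩⟩⟩, Subtype.ext ?_⟩
    · rw [mul_smul, hia, smul_inv_smul]
    · rw [mul_smul, hib, smul_inv_smul]
    · show x * (g ⟨_, hx⟩)⁻¹ * g ⟨_, hx⟩ = x
      rw [inv_mul_cancel_right]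

omit h [Finite G] [Finite Ω] in
/-- the elements carrying `t` into a set of its conjugates -/
theorem card_conj_into (t : G) (A : Set G) (hA : ∀ x ∈ A, ∃ k : G, k * t * k⁻¹ = x) :
    Nat.card {g : G // g * t * g⁻¹ ∈ A} =
      Nat.card A * Nat.card (Subgroup.centralizer ({t} : Set G)) := by
  have hk : ∀ x : A, ∃ k : G, k * t * k⁻¹ = x := fun x => hA x x.2
  choose k hk using hk
  rw [← Nat.card_prod]
  have hc : ∀ (x : G) (c : Subgroup.centralizer ({t} : Set G)),
      (x * c) * t * (x * c)⁻¹ = x * t * x⁻¹ := fun x c => by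
    calc (x * c) * t * (x * c)⁻¹ = x * ((c : G) * t) * (c : G)⁻¹ * x⁻¹ := by group
      _ = _ := by rw [Subgroup.mem_centralizer_singleton_iff.1 c.2]; group
  refine (Nat.card_eq_of_bijective (fun q : A × Subgroup.centralizer ({t} : Set G) =>
    (⟨k q.1 * q.2, by rw [hc, hk]; exact q.1.2⟩ : {g : G // g * t * g⁻¹ ∈ A})) ⟨?_, ?_⟩).symm
  · rintro ⟨x, c⟩ ⟨y, d⟩ e
    have e' : k x * c = k y * d := congrArg Subtype.val e
    obtain rfl : x = y := by
      have := congrArg (fun g : G => g * t * g⁻¹) e'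
      simp only [hc, hk] at this
      exact Subtype.ext this
    exact Prod.ext rfl (Subtype.ext (mul_left_cancel e'))
  · rintro ⟨g, hg⟩
    refine ⟨⟨⟨_, hg⟩, ⟨(k ⟨_, hg⟩)⁻¹ * g, Subgroup.mem_centralizer_singleton_iff.2 ?_⟩⟩,
      Subtype.ext (mul_inv_cancel_left _ _)⟩
    have e := hk ⟨_, hg⟩
    set x := k ⟨_, hg⟩
    calc x⁻¹ * g * t = x⁻¹ * (g * t * g⁻¹) * g := by group
      _ = x⁻¹ * (x * t * x⁻¹) * g := by rw [e]
      _ = t * (x⁻¹ * g) := by group

theorem count_swap {a b : Ω} (hab : a ≠ b) :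
    Nat.card Ω = i + Nat.card (Subgroup.centralizer ({t} : Set G)) ∧
      ∀ g : G, g • a = b → g • b = a → ∃ k : G, k * t * k⁻¹ = g := by
  classical
  haveI := Fintype.ofFinite Ω
  set m := Nat.card (Subgroup.centralizer ({t} : Set G))
  let P : Set (Ω × Ω) := {p | p.2 = t • p.1 ∧ p.1 ≠ p.2}
  let A : Set G := {x | (x • a = b ∧ x • b = a) ∧ ∃ k : G, k * t * k⁻¹ = x}
  let B : Set G := {x | x • a = b ∧ x • b = a}
  have hP : Nat.card P = Nat.card Ω - i := by
    rw [Nat.card_congr (show P ≃ {x : Ω // ¬ t • x = x} from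
      { toFun := fun p => ⟨p.1.1, fun e => p.2.2 (e.symm.trans p.2.1.symm)⟩
        invFun := fun x => ⟨(x.1, t • x.1), rfl, fun e => x.2 e.symm⟩
        left_inv := fun p => Subtype.ext (Prod.ext rfl p.2.1.symm)
        right_inv := fun x => rfl })]
    rw [← h.fix_t, fixCard, Nat.card_eq_fintype_card, Nat.card_eq_fintype_card,
      Nat.card_eq_fintype_card, Fintype.card_subtype_compl]
  have e1 := h.card_moving hab P fun p hp => hp.2
  have e2 := card_conj_into t A fun x hx => hx.2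
  have e12 : Nat.card {g : G // (g⁻¹ • a, g⁻¹ • b) ∈ P} = Nat.card {g : G // g * t * g⁻¹ ∈ A} := by
    refine Nat.card_congr (Equiv.subtypeEquivRight fun g => ?_)
    constructor
    · rintro ⟨hb, -⟩
      have hga : (g * t * g⁻¹) • a = b := by
        rw [mul_smul, mul_smul, ← hb, smul_inv_smul]
      refine ⟨⟨hga, ?_⟩, g, rfl⟩
      rw [← hga, smul_smul, CfsgLib.Involutions.mul_self_eq_one
        ((CfsgLib.Involutions.orderOf_conj_eq g t).trans h.two), one_smul]
    · rintro ⟨⟨hga, -⟩, -⟩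
      refine ⟨?_, fun e => hab (smul_left_cancel g⁻¹ e)⟩
      show g⁻¹ • b = t • g⁻¹ • a
      rw [← hga, mul_smul, mul_smul, inv_smul_smul]
  rw [e12, e2, hP] at e1
  obtain ⟨k₀, hk0⟩ := h.exists_conj_swap hab
  set x₀ := k₀ * t * k₀⁻¹
  have hB : B.ncard = Nat.card (pairStab G a b) := by
    refine Nat.card_congr (α := B) (β := pairStab G a b)
      { toFun := fun x => ⟨x₀⁻¹ * x, mem_pairStab.2 ⟨?_, ?_⟩⟩
        invFun := fun d => ⟨x₀ * d, ?_⟩
        left_inv := fun x => Subtype.ext (mul_inv_cancel_left _ _)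
        right_inv := fun d => Subtype.ext (inv_mul_cancel_left _ _) }
    · rw [mul_smul, x.2.1, inv_smul_eq_iff]; exact hk0.1.symm
    · rw [mul_smul, x.2.2, inv_smul_eq_iff]; exact hk0.2.symm
    · exact ⟨by rw [mul_smul, d.2.1, hk0.1], by rw [mul_smul, d.2.2, hk0.2]⟩
  have hsub : A ⊆ B := fun x hx => hx.1
  have hle : Nat.card A ≤ Nat.card (pairStab G a b) := hB ▸ Set.ncard_le_ncard hsub (Set.toFinite _)
  have hd : 0 < Nat.card (pairStab G a b) := Nat.card_pos
  have hle' : Nat.card Ω - i ≤ m := by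
    refine Nat.le_of_mul_le_mul_right ?_ hd
    calc (Nat.card Ω - i) * Nat.card (pairStab G a b) = Nat.card A * m := e1.symm
      _ ≤ Nat.card (pairStab G a b) * m := Nat.mul_le_mul_right _ hle
      _ = m * Nat.card (pairStab G a b) := mul_comm _ _
  have hlt := h.fix_lt
  have hm : Nat.card Ω - i = m := le_antisymm hle' (Nat.le_of_dvd (by omega) h.dvd_sub)
  refine ⟨by omega, fun g hga hgb => ?_⟩
  rw [hm, mul_comm m] at e1
  have hA : Nat.card A = Nat.card (pairStab G a b) :=
    Nat.eq_of_mul_eq_mul_right Nat.card_pos e1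
  have hAB : A = B := Set.eq_of_subset_of_ncard_le hsub (hB ▸ hA ▸ le_rfl) (Set.toFinite _)
  have hg : g ∈ A := hAB ▸ (⟨hga, hgb⟩ : g ∈ B)
  exact hg.2

/-- the degree -/
theorem card_eq : Nat.card Ω = i + Nat.card (Subgroup.centralizer ({t} : Set G)) := by
  obtain ⟨p, hp⟩ := h.exists_moved
  exact (h.count_swap (Ne.symm hp)).1

/-- an element exchanging two points is conjugate to `t` -/
theorem of_swap {a b : Ω} (hab : a ≠ b) {g : G} (ha : g • a = b) (hb : g • b = a) :
    Hyp G Ω i g := by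
  obtain ⟨k, rfl⟩ := (h.count_swap hab).2 g ha hb
  exact h.conj k

/-- there is a single class of involutions -/
theorem of_involution {u : G} (hu : orderOf u = 2) :
    (∃ k : G, k * t * k⁻¹ = u) ∧ Hyp G Ω i u := by
  haveI := h.faithful
  obtain ⟨p, hp⟩ : ∃ p : Ω, u • p ≠ p := by
    by_contra! hall
    exact CfsgLib.Involutions.ne_one_of_involution hu
      (eq_of_smul_eq_smul (α := Ω) fun x => by rw [hall x, one_smul])
  have hp' : u • u • p = p := by
    rw [smul_smul, CfsgLib.Involutions.mul_self_eq_one hu, one_smul]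
  obtain ⟨k, hk⟩ := (h.count_swap (Ne.symm hp)).2 u rfl hp'
  exact ⟨⟨k, hk⟩, hk ▸ h.conj k⟩

/-- an element exchanging two points inverts their stabiliser -/
theorem inverts {a b : Ω} (hab : a ≠ b) {g : G} (ha : g • a = b) (hb : g • b = a) {d : G}
    (hd : d ∈ pairStab G a b) : g * d * g⁻¹ = d⁻¹ := by
  have h1 : g * g = 1 := CfsgLib.Involutions.mul_self_eq_one (h.of_swap hab ha hb).two
  have h2 : (g * d) * (g * d) = 1 := CfsgLib.Involutions.mul_self_eq_one
    (h.of_swap hab (by rw [mul_smul, hd.1, ha]) (by rw [mul_smul, hd.2, hb])).two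
  rw [inv_eq_of_mul_eq_one_right h1, eq_inv_iff_mul_eq_one, mul_assoc (g * d)]
  exact h2

theorem comm_pairStab {a b : Ω} (hab : a ≠ b) {d e : G} (hd : d ∈ pairStab G a b)
    (he : e ∈ pairStab G a b) : d * e = e * d := by
  obtain ⟨k, ha, hb⟩ := h.exists_conj_swap hab
  set g := k * t * k⁻¹
  have e1 := h.inverts hab ha hb (mul_mem hd he)
  have e2 : g * (d * e) * g⁻¹ = d⁻¹ * e⁻¹ := by
    rw [← h.inverts hab ha hb hd, ← h.inverts hab ha hb he]
    group
  rw [e2, mul_inv_rev] at e1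
  calc d * e = (e⁻¹ * d⁻¹)⁻¹ := by group
    _ = (d⁻¹ * e⁻¹)⁻¹ := by rw [e1]
    _ = e * d := by group

/-- an element exchanging two points commutes with the involutions fixing them -/
theorem commute_swap {a b : Ω} (hab : a ≠ b) {g : G} (ha : g • a = b) (hb : g • b = a) {u : G}
    (hu : orderOf u = 2) (hua : u • a = a) (hub : u • b = b) : Commute g u := by
  have := h.inverts hab ha hb (mem_pairStab.2 ⟨hua, hub⟩)
  rw [CfsgLib.Involutions.inv_eq_self_of_involution hu] at this
  exact mul_inv_eq_iff_eq_mul.1 this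

end Hyp

end CfsgLib.ConstFixity
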