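import Mathlib
import Cfsg.Agent.Lib.ConstFixity.Basic
import Cfsg.Agent.Lib.Involutions.BrauerSuzuki
import Cfsg.Agent.Lib.Involutions.StronglyEmbedded
import Cfsg.Agent.Lib.Structure.MinimalNormal
import Cfsg.Agent.Lib.PermGroup.Basic
import Cfsg.Agent.Lib.PCore.Basic
import Cfsg.Agent.Lib.PF.OddOrder

/-!
# Constant fixity at most one: two-point stabilisers fix exactly two points

Otherwise no two involutions commute, so the core is non-trivial and there is a regular normal subgroup.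
-/

set_option autoImplicit false
set_option linter.style.haveILetI false

namespace CfsgLib.ConstFixity

open MulAction
open CfsgLib.PermSmall.Zassenhaus (pairStab mem_pairStab)

universe u

variable {G : Type u} {Ω : Type*} [Group G] [MulAction G Ω]

/-- a regular normal subgroup, in the form of the statement -/
def HasRegularNormal (G Ω : Type*) [Group G] [MulAction G Ω] : Prop :=
  ∃ R : Subgroup G, R.Normal ∧ (∀ x y : Ω, ∃ r ∈ R, r • x = y) ∧
    ∀ x : Ω, ∀ r ∈ R, r • x = x → r = 1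

theorem hasRegularNormal_of_abelian [FaithfulSMul G Ω] (h2 : IsMultiplyPretransitive G Ω 2)
    (N : Subgroup G) (hN : N.Normal) (hne : N ≠ ⊥) (hc : IsMulCommutative N) :
    HasRegularNormal G Ω := by
  haveI := isPreprimitive_of_is_two_pretransitive h2
  haveI := hN
  haveI := CfsgLib.PermGroup.isPretransitive_of_normal (X := Ω) hne
  refine ⟨N, hN, fun x y => ?_, fun x r hr hrx => eq_of_smul_eq_smul (α := Ω) fun y => ?_⟩
  · obtain ⟨r, hr⟩ := exists_smul_eq N x y
    exact ⟨r, r.2, hr⟩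
  · obtain ⟨m, rfl⟩ := exists_smul_eq N x y
    have e : r * (m : G) = m * r := congrArg Subtype.val (hc.is_comm.comm ⟨r, hr⟩ m)
    rw [one_smul, Subgroup.smul_def, smul_smul, e, mul_smul, hrx]

theorem hasRegularNormal_of_solvable [Finite G] [FaithfulSMul G Ω]
    (h2 : IsMultiplyPretransitive G Ω 2) (H : Subgroup G) (hH : H.Normal) (hne : H ≠ ⊥)
    (hs : Group.IsSolvable H) : HasRegularNormal G Ω := by
  obtain ⟨N, hN, hle⟩ := CfsgLib.Structure.exists_isMinNormal_le hH hne
  haveI := hN.normal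
  haveI := hs
  haveI : Group.IsSolvable N :=
    Group.isSolvable_of_isSolvable_injective (Subgroup.inclusion_injective hle)
  haveI : Nontrivial N := (Subgroup.nontrivial_iff_ne_bot N).2 hN.ne_bot
  have hlt : ⁅N, N⁆ < N := by
    rw [← Subgroup.map_subtype_commutator]
    have := Subgroup.map_subtype_lt_map_subtype.mpr
      (Group.IsSolvable.commutator_lt_top_of_nontrivial (G := N))
    rwa [← MonoidHom.range_eq_map, Subgroup.range_subtype] at this
  have h0 : ⁅N, N⁆ = ⊥ := by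
    by_contra h
    exact hlt.ne (hN.eq_of_le (Subgroup.commutator_normal N N) hlt.le h)
  exact hasRegularNormal_of_abelian h2 N hN.normal hN.ne_bot
    ⟨⟨fun a b => Subtype.ext (commutatorElement_eq_one_iff_mul_comm.1
      (Subgroup.mem_bot.1 (h0 ▸ Subgroup.commutator_mem_commutator a.2 b.2)))⟩⟩

namespace Hyp

variable {i : ℕ} {t : G} (h : Hyp G Ω i t) [Finite G] [Finite Ω]
include h

omit [Finite G] in
theorem two_le_of_fix {g : G} (hg : Commute g t) (hg1 : g ≠ 1) {a b : Ω} (hab : a ≠ b)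
    (ha : g • a = a) (hb : g • b = b) : 2 ≤ i := by
  rw [← h.cent g hg hg1, fixCard]
  haveI : Nontrivial {x : Ω // g • x = x} :=
    ⟨⟨⟨a, ha⟩, ⟨b, hb⟩, fun e => hab (congrArg Subtype.val e)⟩⟩
  exact Finite.one_lt_card

/-- no non-trivial element fixing two points commutes with an involution -/
theorem not_commute (hi : i ≤ 1) {a b : Ω} (hab : a ≠ b) {d : G} (hd : d ∈ pairStab G a b)
    (hd1 : d ≠ 1) {u : G} (hu : orderOf u = 2) (hc : Commute d u) : False := by
  have := (h.of_involution hu).2.two_le_of_fix hc hd1 hab hd.1 hd.2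
  omega

theorem odd_pairStab (hi : i ≤ 1) {a b : Ω} (hab : a ≠ b) : Odd (Nat.card (pairStab G a b)) := by
  rw [← Nat.not_even_iff_odd]
  intro he
  obtain ⟨u, hu, hu2⟩ := CfsgLib.Involutions.exists_involution_of_even_card _ he
  exact h.not_commute hi hab hu (CfsgLib.Involutions.ne_one_of_involution hu2) hu2 (Commute.refl u)

theorem mul_self_ne_one (hi : i ≤ 1) {a b : Ω} (hab : a ≠ b) {d : G} (hd : d ∈ pairStab G a b)
    (hd1 : d ≠ 1) : d⁻¹ ≠ d := fun e =>
  Nat.not_even_iff_odd.2 (h.odd_pairStab hi hab)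
    (CfsgLib.Involutions.even_card_of_involution_mem hd
      (CfsgLib.Involutions.orderOf_eq_two_iff_inv.2 ⟨hd1, e⟩))

/-- if an element fixes three points then an involution fixing the first inverts it -/
theorem exists_inverting (hi : i ≤ 1) {a b c : Ω} (hab : a ≠ b) (hbc : b ≠ c) (hac : a ≠ c) {d : G}
    (hd1 : d ≠ 1) (ha : d • a = a) (hb : d • b = b) (hc : d • c = c) :
    ∃ w : G, orderOf w = 2 ∧ w • a = a ∧ w * d * w⁻¹ = d⁻¹ := by
  have inv : ∀ {x : Ω}, a ≠ x → d • x = x → ∀ {r : G}, r • a = x → r • x = a →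
      r * d * r⁻¹ = d⁻¹ ∧ r * d⁻¹ * r⁻¹ = d := fun hx hdx r h1 h2 => by
    have hm : d ∈ pairStab G a _ := mem_pairStab.2 ⟨ha, hdx⟩
    refine ⟨h.inverts hx h1 h2 hm, ?_⟩
    have := h.inverts hx h1 h2 (inv_mem hm)
    rwa [inv_inv] at this
  obtain ⟨kb, hb1, hb2⟩ := h.exists_conj_swap hab
  obtain ⟨kc, hc1, hc2⟩ := h.exists_conj_swap hac
  set rb := kb * t * kb⁻¹
  set rc := kc * t * kc⁻¹
  set v := rc • b with hv
  have hva : a ≠ v := fun e => hbc (smul_left_cancel rc (e.symm.trans hc2.symm))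
  have hdv : d • v = v := by
    have e : d * rc = rc * d⁻¹ := by
      have := (inv hac hc hc1 hc2).2
      conv_lhs => rw [← this]
      group
    rw [hv, smul_smul, e, mul_smul, inv_smul_eq_iff.2 hb.symm]
  obtain ⟨kv, hv1, hv2⟩ := h.exists_conj_swap hva
  set rv := kv * t * kv⁻¹
  set z := rb * rv * (rc * rb) with hz
  have hza : z • a = b := by
    rw [hz, mul_smul (rb * rv), mul_smul rb, mul_smul rc, hb1, ← hv, hv2, hb1]
  have hzd : z * d * z⁻¹ = d := by
    calc z * d * z⁻¹ = rb * (rv * (rc * (rb * d * rb⁻¹) * rc⁻¹) * rv⁻¹) * rb⁻¹ := by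
          rw [hz]; group
      _ = d := by
        rw [(inv hab hb hb1 hb2).1, (inv hac hc hc1 hc2).2, (inv hva hdv hv1 hv2).1,
          (inv hab hb hb1 hb2).2]
  set m := z⁻¹ * rb with hm
  have hma : m • a = a := by rw [hm, mul_smul, hb1, inv_smul_eq_iff, hza]
  have hmd : m * d * m⁻¹ = d⁻¹ := by
    calc m * d * m⁻¹ = z⁻¹ * (rb * d * rb⁻¹) * z := by rw [hm]; group
      _ = z⁻¹ * (z * d * z⁻¹)⁻¹ * z := by rw [(inv hab hb hb1 hb2).1, hzd]
      _ = d⁻¹ := by group
  -- the `2`-part of `m`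
  obtain ⟨e, o, ho, hmo⟩ := Nat.exists_eq_two_pow_mul_odd (orderOf_pos m).ne'
  obtain ⟨j, rfl⟩ := ho
  have hsq : Commute (m * m) d := by
    refine mul_inv_eq_iff_eq_mul.1 ?_
    calc (m * m) * d * (m * m)⁻¹ = m * (m * d * m⁻¹) * m⁻¹ := by group
      _ = m * d⁻¹ * m⁻¹ := by rw [hmd]
      _ = (m * d * m⁻¹)⁻¹ := by group
      _ = d := by rw [hmd, inv_inv]
  set w := m ^ (2 * j + 1) with hw
  have hwd : w * d * w⁻¹ = d⁻¹ := by
    have e1 : (m * m) ^ j * d * ((m * m) ^ j)⁻¹ = d := by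
      rw [(hsq.pow_left j).eq, mul_inv_cancel_right]
    rw [hw, pow_succ', pow_mul, sq]
    calc m * (m * m) ^ j * d * (m * (m * m) ^ j)⁻¹
        = m * ((m * m) ^ j * d * ((m * m) ^ j)⁻¹) * m⁻¹ := by group
      _ = d⁻¹ := by rw [e1, hmd]
  have hw1 : w ≠ 1 := fun e1 => h.mul_self_ne_one hi hab (mem_pairStab.2 ⟨ha, hb⟩) hd1 (by
    rw [← hwd, e1]; group)
  have hwp : w ^ 2 ^ e = 1 := by
    rw [hw, ← pow_mul, mul_comm, ← hmo, pow_orderOf_eq_one]
  have hwc : Commute (w * w) d := by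
    have e1 : w * w = (m * m) ^ (2 * j + 1) := by
      rw [hw, (Commute.refl m).mul_pow]
    rw [e1]
    exact hsq.pow_left _
  have hww : w * w = 1 := by
    by_contra hne
    obtain ⟨k, -, hk⟩ := (Nat.dvd_prime_pow Nat.prime_two).1
      (orderOf_dvd_of_pow_eq_one (x := w * w) (n := 2 ^ e) (by
        rw [(Commute.refl w).mul_pow, hwp, one_mul]))
    have heven : Even (orderOf (w * w)) := by
      rcases k with - | k
      · rw [pow_zero] at hk
        exact absurd (orderOf_eq_one_iff.1 hk) hne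
      · exact hk ▸ ⟨2 ^ k, by rw [pow_succ, mul_two]⟩
    exact h.not_commute hi hab (mem_pairStab.2 ⟨ha, hb⟩) hd1
      (CfsgLib.Involutions.orderOf_pow_half heven) (hwc.symm.pow_right _)
  refine ⟨w, CfsgLib.Involutions.orderOf_eq_two_iff_mul.2 ⟨hw1, hww⟩, ?_, hwd⟩
  exact (pow_mem (show m ∈ stabilizer G a from hma) _)

omit [Finite G] [Finite Ω] in
theorem exists_unique_fix (hi : i = 1) : ∃ p : Ω, t • p = p ∧ ∀ q, t • q = q → q = p := by
  obtain ⟨⟨p, hp⟩, hu⟩ := (Nat.card_eq_one_iff_exists).1 (h.fix_t.trans hi)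
  exact ⟨p, hp, fun q hq => congrArg Subtype.val (hu ⟨q, hq⟩)⟩

/-- the centraliser of an involution is transitive on the points it moves -/
theorem transitive_centralizer (hi : i = 1) {a : Ω} (ha : t • a = a) {y z : Ω} (hy : y ≠ a)
    (hz : z ≠ a) : ∃ c : G, Commute c t ∧ c • a = a ∧ c • y = z := by
  classical
  haveI := Fintype.ofFinite Ω
  set C := Subgroup.centralizer ({t} : Set G)
  obtain ⟨p, hp, hu⟩ := h.exists_unique_fix hi
  obtain rfl := hu a ha
  have hcc : ∀ c : C, Commute (c : G) t := fun c => Subgroup.mem_centralizer_singleton_iff.1 c.2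
  have hfix : ∀ c : C, (c : G) • a = a := fun c =>
    hu _ (by rw [smul_smul, ← (hcc c).eq, mul_smul, ha])
  let f : C → {x : Ω // ¬ x = a} := fun c => ⟨(c : G) • y, fun e =>
    hy (smul_left_cancel (c : G) (e.trans (hfix c).symm))⟩
  have hf : Function.Bijective f := by
    refine (Nat.bijective_iff_injective_and_card _).2 ⟨fun c c' e => ?_, ?_⟩
    · have e' : (c : G) • y = (c' : G) • y := congrArg Subtype.val e
      by_contra hne
      have hd : c'⁻¹ * c ≠ 1 := fun e1 => hne (inv_mul_eq_one.1 e1).symm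
      have := h.two_le_of_fix (g := ((c'⁻¹ * c : C) : G)) (hcc _)
        (fun e1 => hd (Subtype.ext e1)) (Ne.symm hy) (hfix _)
        (by
          show ((c' : G)⁻¹ * c) • y = y
          rw [mul_smul, e', inv_smul_smul])
      omega
    · rw [Nat.card_eq_fintype_card (α := {x : Ω // ¬ x = a}), Fintype.card_subtype_compl,
        Fintype.card_subtype_eq, ← Nat.card_eq_fintype_card, h.card_eq, hi, Nat.add_sub_cancel_left]
  obtain ⟨c, hc⟩ := hf.2 ⟨z, hz⟩
  exact ⟨c, hcc c, hfix c, congrArg Subtype.val hc⟩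

omit t h in
/-- fixing three points is only possible when no two involutions commute -/
theorem eq_of_commute {t : G} (h : Hyp G Ω i t) (hi : i ≤ 1) {a b c : Ω} (hab : a ≠ b) (hbc : b ≠ c)
    (hac : a ≠ c) {d : G} (hd1 : d ≠ 1) (ha : d • a = a) (hb : d • b = b) (hc : d • c = c)
    {s u : G} (hs : orderOf s = 2) (hu : orderOf u = 2) (hsu : Commute s u) : s = u := by
  obtain ⟨w, hw, hwa, hwd⟩ := h.exists_inverting hi hab hbc hac hd1 ha hb hc
  have hW := (h.of_involution hw).2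
  have hi1 : i = 1 := by
    have : 0 < fixCard Ω w := @Nat.card_pos _ ⟨⟨a, hwa⟩⟩ _
    rw [hW.fix_t] at this
    omega
  obtain ⟨p, hp, hpu⟩ := hW.exists_unique_fix hi1
  obtain rfl := hpu a hwa
  -- every involution fixing `a` inverts `d`
  have hinv : ∀ x : G, orderOf x = 2 → x • a = a → x * d * x⁻¹ = d⁻¹ := by
    intro x hx hxa
    obtain ⟨⟨k, hk⟩, -⟩ := hW.of_involution hx
    subst hk
    have hka : k⁻¹ • a = a := hpu _ (by
      rw [mul_smul, mul_smul] at hxa
      exact smul_eq_iff_eq_inv_smul k |>.1 hxa)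
    have hkb : k⁻¹ • b ≠ a := fun e => hab (smul_left_cancel k⁻¹ (hka.trans e.symm))
    obtain ⟨z, hzw, hza, hzb⟩ := hW.transitive_centralizer hi1 hwa (Ne.symm hab) hkb
    have hmem : k * z ∈ pairStab G a b := mem_pairStab.2 ⟨by
      rw [mul_smul, hza]; exact inv_smul_eq_iff.1 hka |>.symm, by
      rw [mul_smul, hzb, smul_inv_smul]⟩
    have hcd := h.comm_pairStab hab hmem (mem_pairStab.2 ⟨ha, hb⟩)
    have e1 : k * w * k⁻¹ = (k * z) * w * (k * z)⁻¹ := by
      calc k * w * k⁻¹ = k * (w * z) * z⁻¹ * k⁻¹ := by group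
        _ = _ := by rw [← hzw.eq]; group
    set y := k * z
    have hyd : y⁻¹ * d * y = d := by rw [mul_assoc, ← hcd, inv_mul_cancel_left]
    rw [e1]
    calc y * w * y⁻¹ * d * (y * w * y⁻¹)⁻¹ = y * (w * (y⁻¹ * d * y) * w⁻¹) * y⁻¹ := by group
      _ = y * (y⁻¹ * d * y)⁻¹ * y⁻¹ := by rw [hyd, hwd]
      _ = d⁻¹ := by group
  -- move the fixed point of `s` to `a`
  obtain ⟨⟨q, hq, hqu⟩⟩ : Nonempty (∃ q : Ω, s • q = q ∧ ∀ r, s • r = r → r = q) :=
    ⟨(h.of_involution hs).2.exists_unique_fix hi1⟩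
  have huq : u • q = q := hqu _ (by rw [smul_smul, hsu.eq, mul_smul, hq])
  haveI : IsPretransitive G Ω := by
    haveI := h.h2
    exact isPretransitive_of_is_two_pretransitive
  obtain ⟨g, hg⟩ := exists_smul_eq G q a
  have hfix : ∀ x : G, x • q = q → (g * x * g⁻¹) • a = a := fun x hx => by
    rw [mul_smul, mul_smul, inv_smul_eq_iff.2 hg.symm, hx, hg]
  have hs' := hinv _ ((CfsgLib.Involutions.orderOf_conj_eq g s).trans hs) (hfix s hq)
  have hu' := hinv _ ((CfsgLib.Involutions.orderOf_conj_eq g u).trans hu) (hfix u huq)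
  set s' := g * s * g⁻¹ with hs'd
  set u' := g * u * g⁻¹ with hu'd
  have hcom : Commute d (s' * u') := by
    refine (mul_inv_eq_iff_eq_mul.1 ?_ : (s' * u') * d = d * (s' * u')).symm
    calc s' * u' * d * (s' * u')⁻¹ = s' * (u' * d * u'⁻¹) * s'⁻¹ := by group
      _ = (s' * d * s'⁻¹)⁻¹ := by rw [hu']; group
      _ = d := by rw [hs', inv_inv]
  by_contra hne
  have hord : orderOf (s * u) = 2 := by
    refine CfsgLib.Involutions.orderOf_eq_two_iff_mul.2 ⟨fun e => hne ?_, ?_⟩
    · rw [← inv_eq_of_mul_eq_one_right e, CfsgLib.Involutions.inv_eq_self_of_involution hs]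
    · rw [mul_assoc, ← mul_assoc u, ← hsu.eq, mul_assoc, CfsgLib.Involutions.mul_self_eq_one hu,
        mul_one, CfsgLib.Involutions.mul_self_eq_one hs]
  have hord' : orderOf (s' * u') = 2 := by
    rw [show s' * u' = g * (s * u) * g⁻¹ by rw [hs'd, hu'd]; group,
      CfsgLib.Involutions.orderOf_conj_eq, hord]
  exact h.not_commute hi hab (mem_pairStab.2 ⟨ha, hb⟩) hd1 hord' hcom

omit [Finite Ω] in
theorem regular_of_rank_one [Finite Ω] (hi : i = 1)
    (huniq : ∀ s u : G, orderOf s = 2 → orderOf u = 2 → Commute s u → s = u) :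
    HasRegularNormal G Ω := by
  haveI := h.faithful
  have hz := CfsgLib.Involutions.inZStar_of_rank_one huniq h.two
  have hcop := CfsgLib.PCore.pPrimeCore_coprime (G := G) (p := 2)
  have hodd : Odd (Nat.card (Cfsg.pPrimeCore 2 G)) := (Nat.coprime_two_right).1 hcop
  have hN : (Cfsg.pPrimeCore 2 G).Normal := by
    rw [Cfsg.pPrimeCore]
    exact Subgroup.sSup_normal _ fun _ hn => hn.1
  refine hasRegularNormal_of_solvable h.h2 _ hN (fun e => ?_) (CfsgLib.PF.oddSolvable _ hodd)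
  have hcen : ∀ g : G, g * t * g⁻¹ = t := fun g =>
    mul_inv_eq_one.1 (Subgroup.mem_bot.1 (e ▸ hz g))
  obtain ⟨p, hp, hu⟩ := h.exists_unique_fix hi
  obtain ⟨q, hq⟩ := h.exists_moved
  haveI : IsPretransitive G Ω := by
    haveI := h.h2
    exact isPretransitive_of_is_two_pretransitive
  obtain ⟨g, rfl⟩ := exists_smul_eq G p q
  refine hq ?_
  conv_lhs => rw [← hcen g, mul_smul, mul_smul, inv_smul_smul, hp]

/-- non-trivial elements fix at most two points, or there is a regular normal subgroup -/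
theorem fix_two_or_regular (hi : i ≤ 1) :
    (∀ g : G, ∀ a b c : Ω, a ≠ b → b ≠ c → a ≠ c → g • a = a → g • b = b → g • c = c → g = 1) ∨
      HasRegularNormal G Ω := by
  by_contra! hc
  obtain ⟨⟨d, a, b, c, hab, hbc, hac, ha, hb, hc', hd1⟩, hreg⟩ := hc
  obtain ⟨w, hw, hwa, -⟩ := h.exists_inverting hi hab hbc hac hd1 ha hb hc'
  have hi1 : i = 1 := by
    have : 0 < fixCard Ω w := @Nat.card_pos _ ⟨⟨a, hwa⟩⟩ _
    rw [(h.of_involution hw).2.fix_t] at this
    omega
  exact hreg (h.regular_of_rank_one hi1 fun s u hs hu hsu =>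
    h.eq_of_commute hi hab hbc hac hd1 ha hb hc' hs hu hsu)

end Hyp

end CfsgLib.ConstFixity
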