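import Mathlib
import Cfsg.Agent.Lib.ConstFixity.One
import Cfsg.Agent.Lib.PermSmall.Zassenhaus
import Cfsg.Agent.S0742

/-!
# Constant fixity at least two: `PSL₂(q)` or a regular normal subgroup

For fixity at least three, the centraliser of an involution `t` is transitive on `Fix t` with kernel
the two-point stabiliser, whose non-identity elements are involutions; this forces `n = i + i²` and
`i - 1 ∣ n - 1`, which is absurd. With fixity two the group is a Zassenhaus group with two-point
stabilisers of even order `d`, `2 d ≤ n - 2`.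
-/

set_option autoImplicit false
set_option linter.style.haveILetI false

namespace CfsgLib.ConstFixity

open MulAction
open CfsgLib.PermSmall.Zassenhaus (pairStab mem_pairStab)

variable {G Ω : Type*} [Group G] [MulAction G Ω] [Finite G] [Finite Ω]

namespace Hyp

variable {i : ℕ} {t : G} (h : Hyp G Ω i t)
include h

theorem commute_pair {a b : Ω} (hab : a ≠ b) (hta : t • a = a) (htb : t • b = b) {d : G}
    (hd : d ∈ pairStab G a b) : Commute d t :=
  h.comm_pairStab hab hd (mem_pairStab.2 ⟨hta, htb⟩)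

theorem exists_swap_commute {a b : Ω} (hab : a ≠ b) (hta : t • a = a) (htb : t • b = b) :
    ∃ g : G, Commute g t ∧ g • a = b ∧ g • b = a := by
  obtain ⟨k, h1, h2⟩ := h.exists_conj_swap hab
  exact ⟨_, h.commute_swap hab h1 h2 h.two hta htb, h1, h2⟩

omit [Finite G] in
/-- an element of `C(t)` moving a fixed point of `t` squares to one -/
theorem sq_eq_one {x : G} (hx : Commute x t) {p : Ω} (hp : t • p = p) (hxp : x • p ≠ p) :
    x * x = 1 := by
  by_contra hne
  have hx1 : x ≠ 1 := fun e => hxp (by rw [e, one_smul])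
  have hy1 : x * t ≠ 1 := fun e => hxp (by
    have := congrArg (· • p) e
    simpa only [mul_smul, hp, one_smul] using this)
  have htt := CfsgLib.Involutions.mul_self_eq_one h.two
  have hyy : (x * t) * (x * t) = x * x := by
    calc (x * t) * (x * t) = x * (t * x) * t := by group
      _ = x * x * (t * t) := by rw [← hx.eq]; group
      _ = x * x := by rw [htt, mul_one]
  have hg := h.cent (x * x) (hx.mul_left hx) hne
  have hfy : ∀ q : Ω, (x * x) • q = q → (x * t) • q = q := fun q hq =>
    fix_eq_of_le (fun r hr => by rw [← hyy, mul_smul, hr, hr])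
      (by rw [hg, h.cent _ (hx.mul_left (Commute.refl t)) hy1]) hq
  have hsub : ∀ q : Ω, x • q = q → t • q = q := fun q hq => by
    have h1 := hfy q (by rw [mul_smul, hq, hq])
    rw [mul_smul] at h1
    exact smul_left_cancel x (h1.trans hq.symm)
  exact hxp (fix_eq_of_le hsub (by rw [h.fix_t, h.cent x hx hx1]) hp)

/-- two-point stabilisers inside `Fix t` fix `Fix t` -/
theorem fix_all {a b c : Ω} (hab : a ≠ b) (hta : t • a = a) (htb : t • b = b) (htc : t • c = c)
    {d : G} (hd : d ∈ pairStab G a b) : d • c = c := by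
  by_contra hne
  have hdt := h.commute_pair hab hta htb hd
  have hac : a ≠ c := fun e => hne (e ▸ hd.1)
  obtain ⟨x, hxt, hxa, hxc⟩ := h.exists_swap_commute hac hta htc
  have hd2 := h.sq_eq_one hdt htc hne
  have hx2 := h.sq_eq_one hxt hta (fun e => hac (e.symm.trans hxa))
  have hmove : (d * x) • a ≠ a := fun e => hac (smul_left_cancel d (by
    rw [mul_smul, hxa] at e
    exact hd.1.trans e.symm))
  have hdx := h.sq_eq_one (hdt.mul_left hxt) hta hmove
  have hcomm : d * x = x * d := by
    have e1 : (d * x)⁻¹ = d * x := inv_eq_of_mul_eq_one_right hdx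
    rw [mul_inv_rev, inv_eq_of_mul_eq_one_right hx2, inv_eq_of_mul_eq_one_right hd2] at e1
    exact e1.symm
  apply hne
  calc d • c = (d * x) • a := by rw [mul_smul, hxa]
    _ = c := by rw [hcomm, mul_smul, hd.1, hxa]

/-- with three fixed points, two-point stabilisers in `Fix t` have exponent two -/
theorem exponent_two {a b c : Ω} (hab : a ≠ b) (hac : a ≠ c) (hbc : b ≠ c) (hta : t • a = a)
    (htb : t • b = b) (htc : t • c = c) {d : G} (hd : d ∈ pairStab G a b) : d * d = 1 := by
  obtain ⟨x, hxt, hxa, hxb⟩ := h.exists_swap_commute hab hta htb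
  obtain ⟨y, hyt, hya, hyc⟩ := h.exists_swap_commute hac hta htc
  have hdt := h.commute_pair hab hta htb hd
  have hdc := h.fix_all hab hta htb htc hd
  have inv : ∀ {z : G}, Commute z t → ∀ {p : Ω}, t • p = p → d • p = p → z • p ≠ p →
      z * d * z⁻¹ = d⁻¹ := fun {z} hz {p} hp hdp hzp => by
    have h1 := h.sq_eq_one hz hp hzp
    have h2 := h.sq_eq_one (hz.mul_left hdt) hp (by rwa [mul_smul, hdp])
    rw [inv_eq_of_mul_eq_one_right h1, eq_inv_iff_mul_eq_one, mul_assoc (z * d)]
    exact h2
  have e1 := inv hxt hta hd.1 (by rw [hxa]; exact Ne.symm hab)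
  have e2 := inv hyt hta hd.1 (by rw [hya]; exact Ne.symm hac)
  have e3 := inv (hxt.mul_left hyt) htc hdc (by rw [mul_smul, hyc, hxa]; exact hbc)
  have e4 : x * y * d * (x * y)⁻¹ = d := by
    calc x * y * d * (x * y)⁻¹ = x * (y * d * y⁻¹) * x⁻¹ := by group
      _ = (x * d * x⁻¹)⁻¹ := by rw [e2]; group
      _ = d := by rw [e1, inv_inv]
  rw [e4] at e3
  exact eq_inv_iff_mul_eq_one.1 e3

/-- the order of `C(t)` -/
theorem card_centralizer_eq {a b : Ω} (hab : a ≠ b) (hta : t • a = a) (htb : t • b = b) :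
    Nat.card (Subgroup.centralizer ({t} : Set G)) = i * Nat.card (pairStab G a b) := by
  classical
  set C := Subgroup.centralizer ({t} : Set G)
  have hg : ∀ p : {x : Ω // t • x = x}, ∃ g : G, Commute g t ∧ g • a = p.1 := fun p => by
    by_cases hp : a = p.1
    · exact ⟨1, Commute.one_left t, by rw [one_smul, hp]⟩
    · obtain ⟨g, h1, h2, -⟩ := h.exists_swap_commute hp hta p.2
      exact ⟨g, h1, h2⟩
  choose g hgt hga using hg
  have hstab : ∀ x : G, Commute x t → x • a = a → x ∈ pairStab G a b := fun x hx hxa => by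
    refine mem_pairStab.2 ⟨hxa, ?_⟩
    by_contra hxb
    -- the element exchanging `a` and `b` in `C(t)` commutes with `x`
    obtain ⟨y, hyt, hya, hyb⟩ := h.exists_swap_commute hab hta htb
    have hx2 := h.sq_eq_one hx htb hxb
    have hy2 := h.sq_eq_one hyt hta (by rw [hya]; exact Ne.symm hab)
    have hmove : (x * y) • a ≠ a := by
      rw [mul_smul, hya]
      exact fun e => hab (smul_left_cancel x (hxa.trans e.symm))
    have hxy := h.sq_eq_one (hx.mul_left hyt) hta hmove
    have hcomm : x * y = y * x := by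
      have e1 : (x * y)⁻¹ = x * y := inv_eq_of_mul_eq_one_right hxy
      rw [mul_inv_rev, inv_eq_of_mul_eq_one_right hx2, inv_eq_of_mul_eq_one_right hy2] at e1
      exact e1.symm
    apply hxb
    calc x • b = (x * y) • a := by rw [mul_smul, hya]
      _ = b := by rw [hcomm, mul_smul, hxa, hya]
  have hi : Nat.card {x : Ω // t • x = x} = i := h.fix_t
  rw [← hi, ← Nat.card_prod]
  refine (Nat.card_eq_of_bijective (fun q : {x : Ω // t • x = x} × pairStab G a b =>
    (⟨g q.1 * q.2, Subgroup.mem_centralizer_singleton_iff.2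
      ((hgt q.1).mul_left (h.commute_pair hab hta htb q.2.2)).eq⟩ : C)) ⟨?_, ?_⟩).symm
  · rintro ⟨p, d⟩ ⟨p', d'⟩ e
    have e' : g p * d = g p' * d' := congrArg Subtype.val e
    obtain rfl : p = p' := by
      have := congrArg (· • a) e'
      simp only [mul_smul, show (d : G) • a = a from d.2.1, show (d' : G) • a = a from d'.2.1, hga] at this
      exact Subtype.ext this
    exact Prod.ext rfl (Subtype.ext (mul_left_cancel e'))
  · rintro ⟨c, hc⟩
    have hct : Commute c t := Subgroup.mem_centralizer_singleton_iff.1 hc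
    have hfix : t • c • a = c • a := by rw [smul_smul, ← hct.eq, mul_smul, hta]
    refine ⟨⟨⟨c • a, hfix⟩, ⟨(g ⟨c • a, hfix⟩)⁻¹ * c, hstab _ ((hgt _).inv_left.mul_left hct) ?_⟩⟩,
      Subtype.ext (mul_inv_cancel_left _ _)⟩
    rw [mul_smul, inv_smul_eq_iff, hga]

theorem card_pair_eq {a b c : Ω} (hab : a ≠ b) (hac : a ≠ c) (hbc : b ≠ c) (hta : t • a = a)
    (htb : t • b = b) (htc : t • c = c) : Nat.card (pairStab G a b) = i := by
  classical
  haveI := Fintype.ofFinite Ω
  set D := pairStab G a b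
  have hm := h.card_centralizer_eq hab hta htb
  let A : Set G := {x | x ∈ D ∧ x ≠ 1}
  let P : Set (Ω × Ω) := {p | t • p.1 = p.1 ∧ t • p.2 = p.2 ∧ p.1 ≠ p.2}
  have hA : ∀ x ∈ A, ∃ k : G, k * t * k⁻¹ = x := fun x hx =>
    (h.of_involution (CfsgLib.Involutions.orderOf_eq_two_iff_mul.2
      ⟨hx.2, h.exponent_two hab hac hbc hta htb htc hx.1⟩)).1
  have e1 := h.card_moving hab P fun p hp => hp.2.2
  have e2 := card_conj_into t A hA
  have e12 : Nat.card {g : G // (g⁻¹ • a, g⁻¹ • b) ∈ P} = Nat.card {g : G // g * t * g⁻¹ ∈ A} := by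
    refine Nat.card_congr (Equiv.subtypeEquivRight fun g => ?_)
    constructor
    · rintro ⟨h1, h2, -⟩
      refine ⟨mem_pairStab.2 ⟨?_, ?_⟩, fun e => CfsgLib.Involutions.ne_one_of_involution h.two
        (conj_eq_one_iff.1 e)⟩
      · rw [mul_smul, mul_smul, h1, smul_inv_smul]
      · rw [mul_smul, mul_smul, h2, smul_inv_smul]
    · rintro ⟨⟨h1, h2⟩, -⟩
      refine ⟨?_, ?_, fun e => hab (smul_left_cancel g⁻¹ e)⟩
      · show t • g⁻¹ • a = g⁻¹ • a
        rw [eq_inv_smul_iff, ← mul_smul, ← mul_smul]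
        exact h1
      · show t • g⁻¹ • b = g⁻¹ • b
        rw [eq_inv_smul_iff, ← mul_smul, ← mul_smul]
        exact h2
  have hP : Nat.card P = i * i - i := by
    let S : Finset Ω := Finset.univ.filter fun x => t • x = x
    have hS : S.card = i := by
      rw [← h.fix_t, fixCard, Nat.card_eq_fintype_card, Fintype.card_subtype]
    rw [Nat.card_coe_set_eq, show P = (S.offDiag : Set (Ω × Ω)) by
      ext p; simp [P, S], Set.ncard_coe_finset, Finset.offDiag_card, hS]
  have hAc : Nat.card A + 1 = Nat.card D := by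
    have : insert (1 : G) A = (D : Set G) := by
      ext x
      by_cases hx : x = 1
      · simp [hx]
      · simp [A, hx]
    rw [← SetLike.coe_sort_coe, ← this, Nat.card_coe_set_eq, Nat.card_coe_set_eq,
      Set.ncard_insert_of_notMem (fun h1 => h1.2 rfl) (Set.toFinite _)]
  rw [e12, e2, hP, hm, ← mul_assoc] at e1
  have e := Nat.eq_of_mul_eq_mul_right (show 0 < Nat.card D from Nat.card_pos) e1
  rw [← Nat.sub_one_mul, mul_comm] at e
  have h3 : 0 < i := by
    rw [← h.fix_t, fixCard]
    exact @Nat.card_pos _ ⟨⟨a, hta⟩⟩ _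
  have := Nat.eq_of_mul_eq_mul_left h3 (e.trans (mul_comm _ _))
  omega

/-- the fixity is at most two -/
theorem le_two : i ≤ 2 := by
  classical
  by_contra hcon
  have hi : 3 ≤ i := by omega
  haveI := Fintype.ofFinite Ω
  obtain ⟨⟨a, hta⟩, ⟨b, htb⟩, ⟨c, htc⟩, hab, hac, hbc⟩ :=
    Fintype.two_lt_card_iff.1 (show 2 < Fintype.card {x : Ω // t • x = x} by
      rw [← Nat.card_eq_fintype_card]; exact lt_of_lt_of_eq hi h.fix_t.symm)
  have hab' : a ≠ b := fun e => hab (Subtype.ext e)
  have hac' : a ≠ c := fun e => hac (Subtype.ext e)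
  have hbc' : b ≠ c := fun e => hbc (Subtype.ext e)
  have hk := h.card_pair_eq hab' hac' hbc' hta htb htc
  have hn : Fintype.card Ω = i + i * i := by
    rw [← Nat.card_eq_fintype_card, h.card_eq, h.card_centralizer_eq hab' hta htb, hk]
  -- the fixed sets through `a`
  have key : ∀ x : Ω, x ≠ a → ∃ k : G, k • a = a ∧ k • b = x := fun x hx =>
    h.exists_pair hab' (Ne.symm hx)
  let F : Ω → Finset Ω := fun x => Finset.univ.filter fun y => ∀ d ∈ pairStab G a x, d • y = y
  have hF : ∀ x, x ≠ a → (F x).card = i ∧ ∀ y ∈ F x, y ≠ a → F y = F x := by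
    intro x hx
    obtain ⟨k, hka, hkb⟩ := key x hx
    have hu := h.conj k
    have hfa : (k * t * k⁻¹) • a = a := by
      rw [mul_smul, mul_smul, inv_smul_eq_iff.2 hka.symm, hta, hka]
    have hfx : (k * t * k⁻¹) • x = x := by
      rw [mul_smul, mul_smul, ← hkb, inv_smul_smul, htb]
    have hmem : ∀ y, y ∈ F x ↔ (k * t * k⁻¹) • y = y := fun y => by
      simp only [F, Finset.mem_filter, Finset.mem_univ, true_and]
      exact ⟨fun hy => hy _ (mem_pairStab.2 ⟨hfa, hfx⟩),
        fun hy d hd => hu.fix_all (Ne.symm hx) hfa hfx hy hd⟩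
    refine ⟨?_, fun y hy hya => ?_⟩
    · have e : Finset.univ.filter (fun y => (k * t * k⁻¹) • y = y) = F x := by
        ext y; simp [hmem]
      rw [← e, ← Fintype.card_subtype, ← Nat.card_eq_fintype_card]
      exact hu.fix_t
    · have hy' := (hmem y).1 hy
      ext z
      rw [hmem]
      simp only [F, Finset.mem_filter, Finset.mem_univ, true_and]
      exact ⟨fun hz => hz _ (mem_pairStab.2 ⟨hfa, hy'⟩),
        fun hz d hd => hu.fix_all (Ne.symm hya) hfa hy' hz hd⟩
  have hdiv : (i - 1) ∣ Fintype.card Ω - 1 := by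
    rw [← Finset.card_univ, ← Finset.card_erase_of_mem (Finset.mem_univ a),
      Finset.card_eq_sum_card_image F (Finset.univ.erase a)]
    refine Finset.dvd_sum fun s hs => ?_
    obtain ⟨x, hx, rfl⟩ := Finset.mem_image.1 hs
    have hxa := (Finset.mem_erase.1 hx).1
    obtain ⟨hcard, hblock⟩ := hF x hxa
    have e : (Finset.univ.erase a).filter (fun y => F y = F x) = (F x).erase a := by
      ext y
      simp only [Finset.mem_filter, Finset.mem_erase, Finset.mem_univ, and_true]
      refine ⟨fun hy => ⟨hy.1, hy.2 ▸ ?_⟩, fun hy => ⟨hy.1, hblock y hy.2 hy.1⟩⟩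
      simp only [F, Finset.mem_filter, Finset.mem_univ, true_and]
      exact fun d hd => hd.2
    have ha : a ∈ F x := by
      simp only [F, Finset.mem_filter, Finset.mem_univ, true_and]
      exact fun d hd => hd.1
    rw [e, Finset.card_erase_of_mem ha, hcard]
  rw [hn] at hdiv
  have h1 : i + i * i - 1 = (i - 1) * (i + 2) + 1 := by
    obtain ⟨j, rfl⟩ : ∃ j, i = j + 3 := ⟨i - 3, by omega⟩
    simp only [show j + 3 - 1 = j + 2 by omega]
    ring_nf
    omega
  rw [h1, Nat.dvd_add_right (Dvd.intro _ rfl), Nat.dvd_one] at hdiv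
  omega

end Hyp

theorem psl_or_regular [Fintype Ω] {t : G} (h : Hyp G Ω 2 t) :
    (∃ (F : Type) (_ : Field F) (_ : Fintype F),
      Nonempty (G ≃* Matrix.ProjectiveSpecialLinearGroup (Fin 2) F)) ∨ HasRegularNormal G Ω := by
  classical
  by_cases hreg : HasRegularNormal G Ω
  · exact Or.inr hreg
  left
  haveI := h.faithful
  obtain ⟨⟨a, hta⟩, ⟨b, htb⟩, hab, -⟩ := Nat.card_eq_two_iff.1 h.fix_t
  have hab' : a ≠ b := fun e => hab (Subtype.ext e)
  have hthree : ∀ g : G, ∀ x y z : Ω, x ≠ y → y ≠ z → x ≠ z → g • x = x → g • y = y → g • z = z →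
      g = 1 := by
    intro g x y z hxy hyz hxz hx hy hz
    by_contra hg
    obtain ⟨k, rfl, rfl⟩ := h.exists_pair hab' hxy
    have hu := h.conj k
    have hcard := hu.cent g (hu.commute_pair hxy (by rw [mul_smul, mul_smul, inv_smul_smul, hta])
      (by rw [mul_smul, mul_smul, inv_smul_smul, htb]) (mem_pairStab.2 ⟨hx, hy⟩)) hg
    rw [fixCard, Nat.card_eq_fintype_card, Fintype.card_subtype] at hcard
    have := Finset.card_le_card (show ({k • a, k • b, z} : Finset Ω) ⊆
      Finset.univ.filter fun w => g • w = w by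
        intro w hw
        simp only [Finset.mem_insert, Finset.mem_singleton] at hw
        rcases hw with rfl | rfl | rfl <;> simp [hx, hy, hz])
    rw [Finset.card_eq_three.2 ⟨_, _, _, hxy, hxz, hyz, rfl⟩, hcard] at this
    omega
  have htD : t ∈ pairStab G a b := mem_pairStab.2 ⟨hta, htb⟩
  have hZ : Cfsg.IsZassenhausGroup G Ω := by
    refine ⟨h.faithful, h.h2, hthree,
      ⟨t, CfsgLib.Involutions.ne_one_of_involution h.two, a, b, hab', hta, htb⟩, fun N hN hNt => ?_⟩
    by_contra! hall
    refine hreg ⟨N, hN, fun x y => ?_, fun x r hr hrx => ?_⟩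
    · obtain ⟨r, hr⟩ := hNt.exists_smul_eq x y
      exact ⟨r, r.2, hr⟩
    · have : (⟨r, hr⟩ : N) ∈ stabilizer N x := hrx
      rw [hall x, Subgroup.mem_bot] at this
      exact congrArg Subtype.val this
  have heven : Even (Nat.card (pairStab G a b)) :=
    CfsgLib.Involutions.even_card_of_involution_mem htD h.two
  have hle : pairStab G a b ≤ Subgroup.centralizer ({t} : Set G) := fun d hd =>
    Subgroup.mem_centralizer_singleton_iff.2 (h.commute_pair hab' hta htb hd).eq
  obtain ⟨s, hst, hsa, -⟩ := h.exists_swap_commute hab' hta htb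
  have hne : Nat.card (pairStab G a b) ≠ Nat.card (Subgroup.centralizer ({t} : Set G)) := fun e => by
    have hs : s ∈ Subgroup.centralizer ({t} : Set G) :=
      Subgroup.mem_centralizer_singleton_iff.2 hst.eq
    rw [← Subgroup.eq_of_le_of_card_ge hle e.ge] at hs
    exact hab' (hs.1.symm.trans hsa)
  have hd2 : 2 * Nat.card (pairStab G a b) ≤ Fintype.card Ω - 2 := by
    rw [← Nat.card_eq_fintype_card (α := Ω), h.card_eq, Nat.add_sub_cancel_left]
    obtain ⟨q, hq⟩ := Subgroup.card_dvd_of_le hle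
    have hq0 : 0 < Nat.card (Subgroup.centralizer ({t} : Set G)) := Nat.card_pos
    rw [hq] at hne hq0 ⊢
    rcases q with - | - | q
    · simp at hq0
    · simp at hne
    · rw [mul_comm 2]
      exact Nat.mul_le_mul_left _ (by omega)
  obtain ⟨p, f, K, iK, fK, -, -, -, -, hiso⟩ := Cfsg.Agent.S0742.result hZ hab' heven hd2
  exact ⟨K, iK, fK, hiso⟩

end CfsgLib.ConstFixity
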