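import Mathlib
import Cfsg.Agent.Lib.ConstFixity.Two
import Cfsg.Agent.Lib.Suzuki.Recognition.Zassenhaus
import Cfsg.Agent.Lib.Zass29.Normal
import Cfsg.Agent.Lib.PermSmall.FeitSimple
import Cfsg.Agent.Lib.PermSmall.OddRecognition
import Cfsg.Agent.Lib.PermGroup.SharpTwoKernel
import Cfsg.Agent.S0727
import Cfsg.Agent.S0731
import Cfsg.Agent.S0738

/-!
# Two-transitive groups with an involution whose centraliser has constant fixity
-/

set_option autoImplicit false
set_option linter.style.haveILetI false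

namespace CfsgLib.ConstFixity

open MulAction
open CfsgLib.PermSmall.Zassenhaus (pairStab mem_pairStab)

universe u

variable {G : Type u} {Ω : Type*} [Group G] [MulAction G Ω] [Finite G] [Fintype Ω]

omit [Finite G] in
/-- a Zassenhaus group of odd degree `p ^ f + 1` which is sharply triply transitive is `PSL₂(2 ^ f)` -/
theorem psl_of_sharp [FaithfulSMul G Ω] {p f : ℕ} (hp : p.Prime) (hodd : Odd (Fintype.card Ω))
    (hn : Fintype.card Ω = p ^ f + 1) (hf : 1 ≤ f)
    (h3 : IsMultiplyPretransitive G Ω 3) (hsharp : ∀ i : Fin 3 ↪ Ω, stabilizer G i = ⊥) :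
    ∃ (F : Type) (_ : Field F) (_ : Fintype F),
      Nonempty (G ≃* Matrix.ProjectiveSpecialLinearGroup (Fin 2) F) := by
  classical
  have hp2 : p = 2 := by
    rcases hp.eq_two_or_odd' with h | h
    · exact h
    · exfalso
      rw [hn] at hodd
      exact Nat.not_even_iff_odd.2 hodd ((h.pow (n := f)).add_one)
  subst hp2
  let φ : G →* Equiv.Perm Ω := MulAction.toPermHom G Ω
  have hφ : Function.Injective φ := MulAction.toPerm_injective
  have h3' : IsMultiplyPretransitive φ.range Ω 3 := ⟨fun i j => by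
    obtain ⟨m, hm⟩ := exists_smul_eq G i j
    exact ⟨⟨φ m, m, rfl⟩, by
      ext k
      exact DFunLike.congr_fun hm k⟩⟩
  have hs' : ∀ i : Fin 3 ↪ Ω, stabilizer φ.range i = ⊥ := by
    intro i
    rw [eq_bot_iff]
    rintro ⟨_, m, rfl⟩ hk
    have hm : m • i = i := by
      ext k
      exact DFunLike.congr_fun hk k
    have : m = 1 := by
      have h' : m ∈ stabilizer G i := hm
      rwa [hsharp i, Subgroup.mem_bot] at h'
    subst this
    exact Subtype.ext (map_one φ)
  obtain ⟨K, iK, iT, hK, ⟨e⟩⟩ := Cfsg.Agent.S0727.result hf hn φ.range h3' hs'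
  haveI : Finite K := Finite.of_fintype K
  have hchar : ringChar K = 2 := by
    rw [ringChar.eq_iff]
    obtain ⟨q, hq⟩ := CharP.exists K
    haveI := hq
    obtain ⟨n', hq', hcard⟩ := FiniteField.card K q
    have : q = 2 := by
      have h := hK ▸ hcard
      exact (Nat.prime_dvd_prime_iff_eq hq' Nat.prime_two).mp
        (hq'.dvd_of_dvd_pow (h ▸ dvd_pow_self q n'.2.ne'))
    subst this
    exact hq
  have hroots : ∀ r : Kˣ, ∃ k : Kˣ, k ^ Fintype.card (Fin 2) = r := by
    intro r
    obtain ⟨k, hk⟩ := FiniteField.isSquare_of_char_two hchar (r : K)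
    have hk0 : k ≠ 0 := fun e0 => r.ne_zero (by rw [hk, e0, mul_zero])
    exact ⟨Units.mk0 k hk0, Units.ext (by rw [Fintype.card_fin, pow_two]; exact hk.symm)⟩
  exact ⟨K, iK, iT, ⟨(MonoidHom.ofInjective hφ).trans (e.trans (MulEquiv.ofBijective _
    ⟨Matrix.ProjectiveSpecialLinearGroup.toPGL_injective,
      Matrix.ProjectiveSpecialLinearGroup.toPGL_surj_of_roots hroots⟩).symm)⟩⟩

variable {i : ℕ} {t : G}

theorem small_fixity (h : Hyp G Ω i t) (hi : i ≤ 1) :
    (∃ (F : Type) (_ : Field F) (_ : Fintype F),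
      Nonempty (G ≃* Matrix.ProjectiveSpecialLinearGroup (Fin 2) F)) ∨
    Cfsg.Lie.IsoSuzuki G ∨ HasRegularNormal G Ω := by
  classical
  by_cases hreg : HasRegularNormal G Ω
  · exact Or.inr (Or.inr hreg)
  have hthree := (h.fix_two_or_regular hi).resolve_right hreg
  haveI := h.faithful
  obtain ⟨p₀, hp₀⟩ := h.exists_moved
  set a := t • p₀
  have hab : a ≠ p₀ := hp₀
  -- some non-trivial element fixes two points
  obtain ⟨g, x, y, hxy, hgx, hgy, hg⟩ :
      ∃ g : G, ∃ x y : Ω, x ≠ y ∧ g • x = x ∧ g • y = y ∧ g ≠ 1 := by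
    by_contra! hs
    refine hreg ?_
    haveI : Nontrivial Ω := ⟨⟨_, _, hab⟩⟩
    obtain ⟨K, hKn, -, -, hKt, hKs, -⟩ := CfsgLib.PermGroup.sharpTwo_kernel h.h2
      (fun g x y hxy hx hy => hs g x y hxy hx hy) Finite.one_lt_card
    refine ⟨K, hKn, fun x y => ?_, fun x r hr hrx => ?_⟩
    · obtain ⟨r, hr⟩ := hKt.exists_smul_eq x y
      exact ⟨r, r.2, hr⟩
    · have : (⟨r, hr⟩ : K) ∈ stabilizer K x := hrx
      rw [hKs x, Subgroup.mem_bot] at this
      exact congrArg Subtype.val this
  have hZ : Cfsg.IsZassenhausGroup G Ω := by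
    refine ⟨h.faithful, h.h2, hthree, ⟨g, hg, x, y, hxy, hgx, hgy⟩, fun N hN hNt => ?_⟩
    by_contra! hall
    refine hreg ⟨N, hN, fun x y => ?_, fun x r hr hrx => ?_⟩
    · obtain ⟨r, hr⟩ := hNt.exists_smul_eq x y
      exact ⟨r, r.2, hr⟩
    · have : (⟨r, hr⟩ : N) ∈ stabilizer N x := hrx
      rw [hall x, Subgroup.mem_bot] at this
      exact congrArg Subtype.val this
  have hodd := h.odd_pairStab hi hxy
  have h3 := CfsgLib.PermSmall.Zassenhaus.three_le_card hZ hxy
  have hmod : Fintype.card Ω % 2 = i % 2 := by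
    have := CfsgLib.PermSmall.Zassenhaus.fixedBy_modEq (Ω := Ω)
      (CfsgLib.Involutions.mul_self_eq_one h.two)
    rwa [show Nat.card (fixedBy Ω t) = i from h.fix_t] at this
  obtain ⟨H, hHa, hHcard, hHfix⟩ := CfsgLib.PermSmall.FeitFrame.exists_translations hZ hxy
  rcases CfsgLib.Zass29.FeitThm.feit hZ hxy hodd H hHa hHcard hHfix with hd | ⟨h2, hna, -⟩
  · -- large two-point stabilisers
    left
    have hfree : ∀ u ∈ H, ∀ z, z ≠ x → u • z = z → u = 1 := fun u hu z hz e =>
      by_contra fun h1 => hz (hHfix u hu h1 z e)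
    have hregH : ∀ y z : Ω, y ≠ x → z ≠ x → ∃! u : H, (u : G) • y = z := by
      intro y z hy hz
      let f : H → {w : Ω // ¬ w = x} := fun u => ⟨(u : G) • y, fun e =>
        hy (smul_left_cancel (u : G) (e.trans (hHa u.2).symm))⟩
      have hf : Function.Bijective f := by
        refine (Nat.bijective_iff_injective_and_card _).mpr ⟨?_, ?_⟩
        · intro u v e
          have e' : (u : G) • y = (v : G) • y := congrArg Subtype.val e
          apply Subtype.ext
          exact (inv_mul_eq_one.mp (hfree _ (mul_mem (inv_mem v.2) u.2) y hy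
            (by rw [mul_smul, e', inv_smul_smul]))).symm
        · rw [Nat.card_eq_fintype_card (α := {w : Ω // ¬ w = x}), Fintype.card_subtype_compl,
            Fintype.card_subtype_eq]
          omega
      obtain ⟨u, hu⟩ := hf.2 ⟨z, hz⟩
      exact ⟨u, congrArg Subtype.val hu, fun v hv => hf.1 (hu ▸ Subtype.ext hv)⟩
    have hHn : (H.subgroupOf (stabilizer G x)).Normal := by
      refine ⟨fun u hu k => ?_⟩
      rw [Subgroup.mem_subgroupOf,
        CfsgLib.Zass29.FeitThm.mem_iff_fixOnly hZ hxy hHa hHcard hHfix] at hu ⊢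
      refine hu.imp (fun e => by simp [e]) fun hu w => ?_
      simp only [Subgroup.coe_mul, Subgroup.coe_inv, mul_smul]
      rw [smul_eq_iff_eq_inv_smul, hu, inv_smul_eq_iff, k.2]
    obtain ⟨hHc, p, f, hp, -, hn⟩ := Cfsg.Agent.S0738.result hZ hxy hd H hHa hHn hregH
    rcases i with - | i
    · rcases CfsgLib.PermSmall.OddRecognition.card_and_recognition hZ hxy H hHa hHn hHc hregH with
        he | ⟨-, K, iK, iT, -, -, hiso⟩
      · exfalso
        obtain ⟨r, hr⟩ := hodd
        omega
      · exact ⟨K, iK, iT, hiso⟩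
    · obtain rfl : i = 0 := by omega
      rcases Cfsg.Agent.S0731.result hZ x H hHa hHn hHc hregH with ⟨h3', hsharp⟩ | ⟨K, iK, iT, -, hiso⟩
      · refine psl_of_sharp hp (Nat.odd_iff.2 hmod) hn ?_ h3' hsharp
        by_contra hf
        rw [show f = 0 by omega, pow_zero] at hn
        omega
      · exact ⟨K, iK, iT, hiso⟩
  · -- translations of 2-power order
    rcases i with - | i
    · exfalso
      obtain ⟨k, hk⟩ := h2.exists_card_eq
      rcases k with - | k
      · rw [pow_zero] at hk
        omega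
      · rw [pow_succ] at hk
        omega
    · obtain rfl : i = 0 := by omega
      haveI := CfsgLib.Zass29.isSimpleGroup_of_odd hZ (Nat.odd_iff.2 hmod)
      exact Or.inr (Or.inl (CfsgLib.Suzuki.Recognition.isoSuzuki_of_translations hZ hxy hodd H hHa
        hHcard hHfix h2 hna))

/-- `PSL₂(q)`, a Suzuki group, or a regular normal subgroup -/
theorem main (h : Hyp G Ω i t) :
    (∃ (F : Type) (_ : Field F) (_ : Fintype F),
      Nonempty (G ≃* Matrix.ProjectiveSpecialLinearGroup (Fin 2) F)) ∨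
    Cfsg.Lie.IsoSuzuki G ∨ HasRegularNormal G Ω := by
  rcases Nat.lt_or_ge i 2 with hi | hi
  · exact small_fixity h (by omega)
  · obtain rfl : i = 2 := le_antisymm h.le_two hi
    exact (psl_or_regular h).imp_right Or.inr

end CfsgLib.ConstFixity
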